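import Cfsg.Agent.H217.Cov7.Geo
import Cfsg.Agent.H833.RS.O73Res
import Cfsg.Agent.H781.Cov9.Res
import Cfsg.Agent.H69.OutGF
import Cfsg.Agent.Prune
set_option linter.all false
prune_inst 0x7f00000000000000000000000000000000000000000000000000000000000000000000000000000000000000000000000000000000000000000000000000000000000000000000000000000000000000003fffffffffffffffffffffffffffbeffbdffffffff
open scoped Cfsg.Agent.FastGrp

/-!
# S2499, row `Ω_7(3)`: which witnesses avoid which geometric maximal subgroups (helper217)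
-/

set_option autoImplicit false
set_option linter.unusedSectionVars false

namespace Cfsg.Agent.H217.Cov7

open Module QuadraticMap Cfsg Cfsg.Geo Cfsg.Agent.LieClassical.OrthCore Cfsg.Agent.H955 Cfsg.Agent.H954.TSing
open Cfsg.Agent.LieClassical.OmegaReindex
open Cfsg.Agent.H884.El Cfsg.Agent.H833.RS.O73
open Cfsg.Agent.H951 (fx cm Inv)
open scoped MatrixGroups Matrix commutatorElement

local notation "I7" => (Unit ⊕ (Fin 3 ⊕ Fin 3))

local notation "V7" => ((Unit ⊕ (Fin 3 ⊕ Fin 3)) → K3)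

section pat

variable {F : Type} [Field F]

/-- the witness of order 14 -/
structure PB (ψ : POmega F ⇑(quadOdd 3 F) →* GL I7 F) (x : POmega F ⇑(quadOdd 3 F)) : Prop where
  ord : orderOf x = 14
  t : ∃ v, IsT (quadOdd 3 F) (ψ (x ^ 7)) v

/-- the witness of order 18 -/
structure PZ (ψ : POmega F ⇑(quadOdd 3 F) →* GL I7 F) (x : POmega F ⇑(quadOdd 3 F)) : Prop where
  ord : orderOf x = 18
  t : ∃ v, IsT (quadOdd 3 F) (ψ (x ^ 9)) v
  line : ∀ w, quadOdd 3 F w = 1 → lin (ψ x) w ≠ w ∧ lin (ψ x) w ≠ -w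

/-- the pattern of the avoided witnesses -/
def Pat (ψ : POmega F ⇑(quadOdd 3 F) →* GL I7 F) (M : Subgroup (POmega F ⇑(quadOdd 3 F))) : Prop :=
  ((∀ x ∈ M, orderOf x ≠ 13) ∧ ((∀ x ∈ M, ¬ PB ψ x) ∨ (∀ x ∈ M, orderOf x ≠ 15) ∨ (∀ x ∈ M, ¬ PZ ψ x))) ∨
  ((∀ x ∈ M, ¬ PB ψ x) ∧ (∀ x ∈ M, orderOf x ≠ 15) ∧ (∀ x ∈ M, ¬ PZ ψ x))

end pat

section geo

variable {F : Type} [Field F] [Fintype F]

/-- a subspace invariant under `t` of dimension three is not totally singular -/
theorem ts3_t {Q : QuadraticForm F (I7 → F)} (hNT : ∀ w, Q w = -1 → NT Q w) {t : GL I7 F} {v : I7 → F}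
    (ht : IsT Q t v) {W : Submodule F (I7 → F)} (hW : _root_.Cfsg.Agent.H951.Inv (lin t) W) (hs : TS Q W) : finrank F W ≠ 3 := by
  refine hNT v ht.val W hs fun w hw => ?_
  by_contra hne
  have h1 : lin t w ∈ W := hW w hw
  rw [ht.app] at h1
  have h2 : polar Q w v • v ∈ W := by
    have h3 : polar Q w v • v = -(-w - polar Q w v • v) - w := by module
    rw [h3]
    exact W.sub_mem (W.neg_mem h1) hw
  have h3 : v ∈ W := by
    have h4 := W.smul_mem (polar Q w v)⁻¹ h2
    rwa [smul_smul, inv_mul_cancel₀ hne, one_smul] at h4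
  have h4 := hs v h3
  rw [ht.val] at h4
  exact one_ne_zero (neg_eq_zero.1 h4)

theorem polar_self'' {Q : QuadraticForm F (I7 → F)} (v : I7 → F) : polar Q v v = 2 * Q v := by
  rw [polar, ← two_smul F v, QuadraticMap.map_smul, smul_eq_mul]
  ring

variable {ψ : POmega F ⇑(quadOdd 3 F) →* GL I7 F} (hF : Fintype.card F = 3) (hψ : Function.Injective ψ)
  (hr : ψ.range = omegaGL (⇑(quadOdd 3 F))) (hNT : ∀ w, quadOdd 3 F w = -1 → NT (quadOdd 3 F) w)
  (h1F : ∀ a : F, a ≠ 0 → a = 1 ∨ a = -1) {M : Subgroup (POmega F ⇑(quadOdd 3 F))}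
  {W : Submodule F (I7 → F)}

include hF hψ hr hNT h1F

/-- totally singular subspaces -/
theorem pat_ts (hW : ∀ z ∈ M, _root_.Cfsg.Agent.H951.Inv (lin (ψ z)) W) (hs : TS (quadOdd 3 F) W) (h0 : W ≠ ⊥) : Pat ψ M := by
  have nQ : Nondeg (quadOdd 3 F) := nondeg_odd (two_ne hF)
  have hB : ∀ x ∈ M, ¬ PB ψ x := by
    intro x hx hb
    have hy : orderOf (x ^ 2) = 7 := by
      rw [orderOf_pow_of_dvd (by norm_num) (by rw [hb.ord]; norm_num), hb.ord]
    obtain ⟨i1, i2⟩ := iso_of_order hψ hr (pp7 hF) (by norm_num) hy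
    exact ts_seven i1 nQ i2 (pp7 hF) (hW _ (M.pow_mem hx 2)) hs h0
  have hd0 : finrank F W ≠ 0 := fun h => h0 (Submodule.finrank_eq_zero.1 h)
  have hd3 : finrank F W ≤ 3 := by
    have := two_mul_finrank_le nQ (U := W) hs
    rw [finrank_seven] at this
    omega
  by_cases h3 : finrank F W = 3
  · right
    refine ⟨hB, ?_, ?_⟩
    · intro x hx h15
      have hy : orderOf (x ^ 3) = 5 := by
        rw [orderOf_pow_of_dvd (by norm_num) (by rw [h15]; norm_num), h15]
      obtain ⟨i1, i2⟩ := iso_of_order hψ hr (pp5 hF) (by norm_num) hy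
      obtain ⟨hcm, -⟩ := i1.even_case nQ i2 (pp5 hF) ⟨2, rfl⟩ (by rw [finrank_seven]; omega)
      have h1 := i1.ts_le nQ i2 (pp5 hF) hcm (hW _ (M.pow_mem hx 3)) hs
      have h2 := i1.finrank_add
      simp only [finrank_seven] at h2
      have h4 : W = fx (lin (ψ (x ^ 3))) := Submodule.eq_of_le_of_finrank_le h1 (by omega)
      refine ts_not_nondeg hs le_rfl h0 ?_
      rw [h4]
      exact nondeg_fx nQ i1.iso i1.ne0 i1.pow
    · intro x hx hz
      obtain ⟨v, hv⟩ := hz.t
      exact ts3_t hNT hv (hW _ (M.pow_mem hx 9)) hs h3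
  · left
    refine ⟨?_, Or.inl hB⟩
    intro x hx h13
    obtain ⟨i1, i2⟩ := iso_of_order hψ hr (pp13 hF) (by norm_num) h13
    obtain ⟨hcm, -⟩ := i1.odd_case nQ i2 (pp13 hF) ⟨1, rfl⟩ (by rw [finrank_seven]; omega)
    have h2 := i1.finrank_add
    simp only [finrank_seven] at h2
    have h5 := i1.le_fx (pp13 hF) (hW x hx) (by omega)
    have h6 : W = fx (lin (ψ x)) := Submodule.eq_of_le_of_finrank_le h5 (by omega)
    refine ts_not_nondeg hs le_rfl h0 ?_
    rw [h6]
    exact nondeg_fx nQ i1.iso i1.ne0 i1.pow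

seal _root_.Finset.sum _root_.dotProduct in
/-- nondegenerate subspaces of even dimension -/
theorem pat_nd (hW : ∀ z ∈ M, _root_.Cfsg.Agent.H951.Inv (lin (ψ z)) W) (hM15 : finrank F W = 6 → ∀ x ∈ M, orderOf x ≠ 15)
    (hn : Nondeg (res (quadOdd 3 F) W)) (h0 : W ≠ ⊥) (he : Even (finrank F W)) : Pat ψ M := by
  have nQ : Nondeg (quadOdd 3 F) := nondeg_odd (two_ne hF)
  have hB7 : ∀ x ∈ M, PB ψ x → finrank F W = 6 ∧ ¬ IsPlus (res (quadOdd 3 F) W) := by
    intro x hx hb
    have hy : orderOf (x ^ 2) = 7 := by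
      rw [orderOf_pow_of_dvd (by norm_num) (by rw [hb.ord]; norm_num), hb.ord]
    obtain ⟨i1, i2⟩ := iso_of_order hψ hr (pp7 hF) (by norm_num) hy
    have h6 := even_seven i1 nQ i2 (pp7 hF) (hW _ (M.pow_mem hx 2)) h0 he
    refine ⟨h6, ?_⟩
    obtain ⟨hcm, hP⟩ := i1.even_case nQ i2 (pp7 hF) ⟨3, rfl⟩ (by rw [finrank_seven]; omega)
    have h2 := i1.finrank_add
    simp only [finrank_seven] at h2
    rcases i1.le_or (pp7 hF) hcm (hW _ (M.pow_mem hx 2)) with h4 | h4
    · have := Submodule.finrank_mono h4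
      omega
    · have h5 : cm (lin (ψ (x ^ 2))) = W := Submodule.eq_of_le_of_finrank_eq h4 (by omega)
      rwa [← h5]
  have hA13 : ∀ x ∈ M, orderOf x = 13 → finrank F W = 6 ∧ IsPlus (res (quadOdd 3 F) W) := by
    intro x hx h13
    obtain ⟨i1, i2⟩ := iso_of_order hψ hr (pp13 hF) (by norm_num) h13
    have h6 := even_thirteen i1 nQ i2 (pp13 hF) (hW x hx) hn h0 he
    refine ⟨h6, ?_⟩
    obtain ⟨hcm, hP, -⟩ := i1.odd_case nQ i2 (pp13 hF) ⟨1, rfl⟩ (by rw [finrank_seven]; omega)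
    have h2 := i1.finrank_add
    simp only [finrank_seven] at h2
    obtain ⟨i, hi⟩ := i1.dvd (pp13 hF) (hW x hx)
    have h5 := H951.finrank_inf_add i1.ne0 i1.pow (hW x hx)
    have h7 : finrank F ↥(W ⊓ fx (lin (ψ x))) ≤ finrank F (fx (lin (ψ x))) := Submodule.finrank_mono inf_le_right
    have h8 : W ⊓ cm (lin (ψ x)) = W := Submodule.eq_of_le_of_finrank_eq inf_le_left (by omega)
    have h9 : W = cm (lin (ψ x)) := Submodule.eq_of_le_of_finrank_eq (inf_eq_left.1 h8) (by omega)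
    rwa [h9]
  by_cases h6 : finrank F W = 6
  · by_cases hP : IsPlus (res (quadOdd 3 F) W)
    · right
      refine ⟨fun x hx hb => (hB7 x hx hb).2 hP, hM15 h6, fun x hx hz => ?_⟩
      -- the orthogonal line
      have hiso := iso_emb hψ hr x
      have hpow : lin (ψ x) ^ 18 = 1 := by
        simp only [H781.Cov9.lin_pow, ← map_pow, ← hz.ord, pow_orderOf_eq_one, map_one, lin_one]
      have hL := H781.Cov9.inv_perp hiso (r := 18) (by norm_num) hpow (hW x hx)
      have hLd : finrank F (perp (quadOdd 3 F) W) = 1 := by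
        have := finrank_add_perp nQ W
        rw [finrank_seven] at this
        omega
      have hLn := nondeg_perp nQ hn
      obtain ⟨w, hw, hw0⟩ := H781.Cov9.exists_mem_ne (W := perp (quadOdd 3 F) W) (by omega)
      have hgen : ∀ z ∈ perp (quadOdd 3 F) W, ∃ c : F, c • w = z := by
        intro z hz
        obtain ⟨c, hc⟩ := (finrank_eq_one_iff_of_nonzero' (⟨w, hw⟩ : perp (quadOdd 3 F) W) (by
          intro h; exact hw0 (congrArg Subtype.val h))).1 hLd ⟨z, hz⟩
        exact ⟨c, congrArg Subtype.val hc⟩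
      have hQw : quadOdd 3 F w ≠ 0 := by
        intro h1
        apply hw0
        refine (nondeg_res_iff (Q := quadOdd 3 F) (W := perp (quadOdd 3 F) W)).1 hLn w hw fun z hz => ?_
        obtain ⟨c, rfl⟩ := hgen z hz
        rw [polar_smul_right, polar_self'', h1]
        simp
      obtain ⟨c, hc⟩ := hgen _ (hL w hw)
      have hc0 : c ≠ 0 := by
        rintro rfl
        rw [zero_smul] at hc
        apply hQw
        rw [← hiso w, ← hc, QuadraticMap.map_zero]
      have hQw2 : quadOdd 3 F w = -1 := by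
        rcases h1F _ hQw with h1 | h1
        · exfalso
          obtain ⟨h2, h3⟩ := hz.line w h1
          rcases h1F c hc0 with h4 | h4
          · rw [h4, one_smul] at hc
            exact h2 hc.symm
          · rw [h4, neg_smul, one_smul] at hc
            exact h3 hc.symm
        · exact h1
      obtain ⟨U, hU, hUd⟩ := hP
      refine hNT w hQw2 (U.map W.subtype) ?_ ?_ ?_
      · rintro _ ⟨u, hu, rfl⟩
        exact hU u hu
      · rintro _ ⟨u, hu, rfl⟩
        exact (hw (u : I7 → F) u.2 :)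
      · have h1 := (Submodule.equivMapOfInjective W.subtype W.injective_subtype U).finrank_eq
        omega
    · left
      refine ⟨fun x hx h13 => hP (hA13 x hx h13).2, Or.inr (Or.inl (hM15 h6))⟩
  · left
    exact ⟨fun x hx h13 => h6 (hA13 x hx h13).1, Or.inl fun x hx hb => h6 (hB7 x hx hb).1⟩

seal _root_.Finset.sum _root_.dotProduct in
/-- frames -/
theorem pat_frame {D : Fin 7 → Submodule F (I7 → F)} (hD : IsNondegenerateMDecomposition (polar ⇑(quadOdd 3 F)) 1 D)
    (hM : ∀ x ∈ M, ψ x ∈ decompositionStabilizer D) : Pat ψ M := by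
  have key : ∀ x ∈ M, ∃ σ : Equiv.Perm (Fin 7), orderOf x ∣ orderOf σ * 2 := by
    intro x hx
    obtain ⟨σ, hσ⟩ := hM x hx
    refine ⟨σ, ?_⟩
    have h5 := frame_pow hD (iso_emb hψ hr x) hσ
    have h7 : x ^ (orderOf σ * 2) = 1 := by
      by_contra hne
      apply lin_emb_ne hψ hr hne
      rw [map_pow, lin, H251.GeoCard.toLin_pow]
      exact h5
    exact orderOf_dvd_of_pow_eq_one h7
  left
  refine ⟨?_, Or.inr (Or.inr ?_)⟩
  · intro x hx h13
    obtain ⟨σ, hσ⟩ := key x hx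
    rw [h13] at hσ
    have h1 : 13 ∣ orderOf σ := (by norm_num : Nat.Prime 13).dvd_mul.1 hσ |>.resolve_right (by norm_num)
    have h2 : orderOf σ ∣ Nat.card (Equiv.Perm (Fin 7)) := orderOf_dvd_natCard σ
    rw [Nat.card_eq_fintype_card, Fintype.card_perm, Fintype.card_fin] at h2
    have h3 := h1.trans h2
    revert h3
    decide
  · intro x hx hz
    obtain ⟨σ, hσ⟩ := key x hx
    rw [hz.ord] at hσ
    refine perm_nine (by norm_num) σ ?_
    omega

/-- the geometric maximal subgroups -/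
theorem pat_geo (hM : IsCoatom M) (hpre : pre (⇑(quadOdd 3 F)) M = M.map ψ) :
    Pat ψ M ∨ InOrthogonalResidualClass (pre (⇑(quadOdd 3 F)) M) := by
  have hmax : IsMaximalIn (omegaGL ⇑(quadOdd 3 F)) (pre (⇑(quadOdd 3 F)) M) := by
    rw [hpre, ← hr]
    exact isMaximalIn_map hψ hM
  have hmem : ∀ z ∈ M, ψ z ∈ pre (⇑(quadOdd 3 F)) M := fun z hz => by rw [hpre]; exact ⟨z, hz, rfl⟩
  have hM15 : ∀ W : Submodule F (I7 → F), finrank F W = 6 → Nondeg (res (quadOdd 3 F) W) →
      pre (⇑(quadOdd 3 F)) M ≤ subspaceStabilizer W → ∀ x ∈ M, orderOf x ≠ 15 :=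
    fun W h1 h2 h3 => not_15 hF h1 h2 h3
  obtain ⟨H, hH⟩ : ∃ H, H = pre (⇑(quadOdd 3 F)) M := ⟨_, rfl⟩
  simp only [← hH] at hmax hmem hM15 ⊢
  rw [coe_quadOdd] at hmax
  rcases Cfsg.Agent.S5814.result (F := F) (by rw [hF]; decide) H hmax with
    ⟨W, hW0, hWs, hHW⟩ | ⟨W, hW0, he, hWn, -, hHW⟩ | ⟨-, D, hD, hHD⟩ | ⟨F₀, s, P, hs, hcard, -⟩ | h6
  · left
    rw [← coe_quadOdd] at hWs
    exact pat_ts hF hψ hr hNT h1F (fun z hz => inv_of_mem (by
      have := hmem z hz
      rw [hHW] at this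
      exact this.1)) hWs hW0
  · left
    rw [← coe_quadOdd] at hWn
    have hn : Nondeg (res (quadOdd 3 F) W) := by
      rw [nondeg_res_iff]
      intro x hx hxy
      by_contra hx0
      obtain ⟨-, y, hy, hy1⟩ := hWn x hx hx0
      exact hy1 (hxy y hy)
    exact pat_nd hF hψ hr hNT h1F (fun z hz => inv_of_mem (by
      have := hmem z hz
      rw [hHW] at this
      exact this.1)) (fun h => hM15 W h hn (by rw [hHW]; exact inf_le_left)) hn hW0 he
  · left
    have hD' := hD.decomp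
    rw [← coe_quadOdd] at hD'
    exact pat_frame hF hψ hr hNT h1F hD' fun x hx => by
      have h4 := hmem x hx
      rw [hHD] at h4
      exact h4.1
  · exfalso
    have h4 : 2 ≤ Nat.card F₀ := Finite.one_lt_card
    have h5 : Nat.card F₀ ^ 2 ≤ Nat.card F₀ ^ s := Nat.pow_le_pow_right (by omega) hs.two_le
    rw [← hcard, hF] at h5
    nlinarith only [h4, h5]
  · exact Or.inr h6

end geo

end Cfsg.Agent.H217.Cov7
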