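import Cfsg.Agent.H217.Cov7.Fin_m3
import Cfsg.Agent.S5815
import Cfsg.Agent.Prune
set_option linter.all false
prune_inst 0x7f00000000000000000000000000000000000000000000000000000000000000000000000000000000000000000000000000000000000000000000000000000000000000000000000000000000000000003fffffffffffffffffffffffffffbeffbdffffffff
open scoped Cfsg.Agent.FastGrp

/-!
# S2499, row `Ω_7(3)` (helper217)

* `noTwo_three` : `Ω_7(3)` is not the union of two conjugacy classes of proper subgroups.
-/

set_option autoImplicit false

namespace Cfsg.Agent.H217.Cov7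

open Cfsg Cfsg.Geo Cfsg.Agent.H278.Cov

/-- **`Ω_7(3)`** -/
theorem noTwo_three {F : Type} [Field F] [Fintype F] (hF : Fintype.card F = 3) :
    NoTwo (POmega F (quadFormOdd 3 F)) :=
  noTwo_of_res hF fun H hH hr => Cfsg.Agent.S5815.result (F := K3) (by rw [cK]; decide) H hH hr

end Cfsg.Agent.H217.Cov7
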