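import Cfsg.Agent.H833.RS.O73Geo
import Cfsg.Agent.H375.O8.TypeA_m3
import Cfsg.Agent.S4279
import Cfsg.Agent.H638.G2Iso
import Cfsg.Agent.FastGrp
import Cfsg.Agent.Prune
set_option linter.all false
prune_inst 0x7f00000000000000000000000000000000000000000000000000000000000000000000000000000000000000000000000000000000000000000000000000000000000000000000000000000000000000003fffffffffffffffffffffffffffbeffbdffffffff
open scoped Cfsg.Agent.FastGrp

/-!
# S2499, row `Ω_7(3)`: a residual subgroup with core `G₂(3)` contains no negative of a reflection (helper217)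

Let `t = -r_v`, `Q v = -1`, be in `H`, `P` the core.  For `w` in the orbit `v^P` the product `t_w t_v` is in `P`.  If
`w` is orthogonal to `v` then it is an involution with a two-dimensional commutator space; this is impossible, as the
centraliser of an involution of `G₂(3)` contains two commuting groups `SL₂(3)`.  So no two lines of the orbit are
orthogonal, the orbit is closed under the reflections, hence `v ± s` are in the orbit only for `s = 0`.
-/

set_option autoImplicit false
set_option linter.unusedSectionVars false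

namespace Cfsg.Agent.H217.Cov7

open Module QuadraticMap Cfsg Cfsg.Geo Cfsg.Agent.LieClassical.OrthCore Cfsg.Agent.H955 Cfsg.Agent.H954.TSing
open Cfsg.Agent.H884.El
open scoped MatrixGroups Matrix

/-- the field with three elements -/
def K3 : Type := ZMod 3

instance : Field K3 := inferInstanceAs (Field (ZMod 3))
instance : Fintype K3 := inferInstanceAs (Fintype (ZMod 3))
instance : DecidableEq K3 := inferInstanceAs (DecidableEq (ZMod 3))

/-- the seven coordinates -/
local notation "I7" => (Unit ⊕ (Fin 3 ⊕ Fin 3))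

local notation "V7" => ((Unit ⊕ (Fin 3 ⊕ Fin 3)) → K3)

section alg

theorem inv_sl2 (a b c d : K3) (h1 : a * d - b * c = 1) (h2 : a * a + b * c = 1) (h3 : a * b + b * d = 0)
    (h4 : c * a + d * c = 0) (h5 : c * b + d * d = 1) (h6 : ¬ (a = 1 ∧ b = 0 ∧ c = 0 ∧ d = 1)) :
    a = -1 ∧ b = 0 ∧ c = 0 ∧ d = -1 := by
  have hs : a + d ≠ 0 := by
    intro h
    have h7 : a * (a + d) = 2 := by linear_combination h1 + h2
    rw [h, mul_zero] at h7
    exact absurd h7 (by decide)
  have hb : b = 0 := by
    have h7 : b * (a + d) = 0 := by linear_combination h3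
    exact (mul_eq_zero.1 h7).resolve_right hs
  have hc : c = 0 := by
    have h7 : c * (a + d) = 0 := by linear_combination h4
    exact (mul_eq_zero.1 h7).resolve_right hs
  subst hb hc
  rw [mul_zero, sub_zero] at h1
  rw [mul_zero, add_zero] at h2
  have h7 : ∀ a d : K3, a * d = 1 → a * a = 1 → a ≠ 1 → a = -1 ∧ d = -1 := by decide
  have h8 : ∀ d : K3, 1 * d = 1 → d = 1 := by decide
  have h9 : a ≠ 1 := by
    rintro rfl
    exact h6 ⟨rfl, rfl, rfl, h8 d h1⟩
  obtain ⟨h10, h11⟩ := h7 a d h1 h2 h9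
  exact ⟨h10, rfl, rfl, h11⟩

theorem arith3 : ∀ A B C : K3, A ≠ 0 → -A - C * B ≠ 0 → B ≠ 0 → C ≠ 0 →
    B * (C * A) - B * B - (C * C - 1) = 0 := by decide

theorem sq_ne : ∀ a : K3, a * a + 1 ≠ 0 := by decide

/-- two commuting quaternion groups in the centraliser of an involution of `G₂(3)` -/
theorem exists_quat (y : ↥(Cfsg.Lie.chevG2.group K3)) (hy : orderOf y = 2) :
    ∃ i c d : ↥(Cfsg.Lie.chevG2.group K3), i * i = y ∧ i * c = c * i ∧ i * d = d * i ∧ c * d = y * (d * c) := by
  obtain ⟨-, L₁, L₂, ⟨e₁⟩, ⟨e₂⟩, hcomm, hinf, -, -⟩ := Cfsg.Agent.S4279.result (F := K3) (by decide) y hy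
  have hyL : y ∈ L₁ ⊓ L₂ := by rw [hinf]; exact Subgroup.mem_zpowers y
  have hinv : ∀ x : Matrix.SpecialLinearGroup (Fin 2) K3, x * x = 1 → x ≠ 1 → x = -1 := by
    intro x hx hx1
    have h1 : (x : Matrix (Fin 2) (Fin 2) K3) * x = 1 := by
      rw [← Matrix.SpecialLinearGroup.coe_mul, hx]; rfl
    have h2 := x.2
    rw [Matrix.det_fin_two] at h2
    have h4 := fun i j => congrFun (congrFun h1 i) j
    have h40 := h4 0 0
    have h41 := h4 0 1
    have h42 := h4 1 0
    have h43 := h4 1 1
    simp only [Matrix.mul_apply, Fin.sum_univ_two, Matrix.one_apply_eq, Matrix.one_apply_ne (show (0 : Fin 2) ≠ 1 by decide),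
      Matrix.one_apply_ne (show (1 : Fin 2) ≠ 0 by decide)] at h40 h41 h42 h43
    obtain ⟨k1, k2, k3, k4⟩ := inv_sl2 _ _ _ _ h2 h40 h41 h42 h43 (by
      rintro ⟨k1, k2, k3, k4⟩
      apply hx1
      ext i j
      fin_cases i <;> fin_cases j
      · exact k1
      · exact k2
      · exact k3
      · exact k4)
    ext i j
    fin_cases i <;> fin_cases j
    · simpa using k1
    · simpa using k2
    · simpa using k3
    · simpa using k4
  have hy1 : y ≠ 1 := by
    rintro rfl
    rw [orderOf_one] at hy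
    omega
  have hyy : y * y = 1 := by rw [← pow_two, ← hy, pow_orderOf_eq_one]
  have hE : ∀ (L : Subgroup ↥(Cfsg.Lie.chevG2.group K3)) (e : L ≃* Matrix.SpecialLinearGroup (Fin 2) K3) (hL : y ∈ L),
      e.symm (-1) = ⟨y, hL⟩ := by
    intro L e hL
    rw [MulEquiv.symm_apply_eq]
    symm
    apply hinv
    · rw [← map_mul]
      have : (⟨y, hL⟩ : L) * ⟨y, hL⟩ = 1 := Subtype.ext hyy
      rw [this, map_one]
    · intro h
      apply hy1
      have h1 : (⟨y, hL⟩ : L) = 1 := by
        apply e.injective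
        rw [h, map_one]
      exact congrArg Subtype.val h1
  let A : Matrix.SpecialLinearGroup (Fin 2) K3 := ⟨!![0, 1; -1, 0], by decide⟩
  let B : Matrix.SpecialLinearGroup (Fin 2) K3 := ⟨!![1, 1; 1, -1], by decide⟩
  have hAA : A * A = -1 := by
    ext i j
    fin_cases i <;> fin_cases j <;> decide
  have hAB : A * B = -1 * (B * A) := by
    ext i j
    fin_cases i <;> fin_cases j <;> decide
  refine ⟨e₁.symm A, e₂.symm A, e₂.symm B, ?_, ?_, ?_, ?_⟩
  · rw [← Subgroup.coe_mul, ← map_mul, hAA, hE L₁ e₁ hyL.1]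
  · exact hcomm _ (e₁.symm A).2 _ (e₂.symm A).2
  · exact hcomm _ (e₁.symm A).2 _ (e₂.symm B).2
  · rw [← Subgroup.coe_mul, ← map_mul, hAB, map_mul, map_mul, hE L₂ e₂ hyL.2]
    rfl

end alg

/-- a perfect group of matrices of odd size over the field with three elements contains no scalars -/
theorem scal_bot {P : Subgroup (GL I7 K3)} (hP : ⁅P, P⁆ = P) : (scalars I7 K3).subgroupOf P = ⊥ := by
  rw [eq_bot_iff]
  intro x hx
  rw [Subgroup.mem_subgroupOf] at hx
  obtain ⟨c, hc⟩ := (mem_scalars_iff _).1 hx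
  have hdet : Matrix.GeneralLinearGroup.det (x : GL I7 K3) = 1 := by
    have h1 : P ≤ (Matrix.GeneralLinearGroup.det : GL I7 K3 →* K3ˣ).ker := by
      rw [← hP, Subgroup.commutator_le]
      intro a _ b _
      rw [MonoidHom.mem_ker, commutatorElement_def, map_mul, map_mul, map_mul, map_inv, map_inv]
      rw [mul_comm (Matrix.GeneralLinearGroup.det a)]
      group
    exact h1 x.2
  have h2 : (c : K3) ^ 7 = 1 := by
    have h3 := congrArg Units.val hdet
    rw [Matrix.GeneralLinearGroup.val_det_apply, hc, Matrix.det_smul, Matrix.det_one, mul_one] at h3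
    exact h3
  have h3 : ∀ a : K3, a ^ 7 = 1 → a = 1 := by decide
  rw [Subgroup.mem_bot]
  apply Subtype.ext
  apply Units.ext
  rw [hc, h3 _ h2, one_smul]
  rfl

/-- `t = -r_v`, `Q v = -1` -/
structure IsT {F : Type} [Field F] (Q : QuadraticForm F (I7 → F)) (t : GL I7 F) (v : I7 → F) : Prop where
  val : Q v = -1
  app : ∀ x, lin t x = -x - polar Q x v • v

theorem polar_self' {Q : QuadraticForm K3 V7} (v : V7) : polar Q v v = 2 * Q v := by
  rw [polar, ← two_smul K3 v, QuadraticMap.map_smul, smul_eq_mul]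
  ring

theorem IsT.ne_zero {Q : QuadraticForm K3 V7} {t : GL I7 K3} {v : V7} (h : IsT Q t v) : v ≠ 0 := by
  rintro rfl
  have := h.val
  rw [QuadraticMap.map_zero] at this
  exact absurd this (by decide)

theorem IsT.self {Q : QuadraticForm K3 V7} {t : GL I7 K3} {v : V7} (h : IsT Q t v) : lin t v = v := by
  rw [h.app, polar_self', h.val]
  have : (2 : K3) * -1 = 1 := by decide
  rw [this, one_smul, ← sub_eq_zero]
  have h3 : (3 : K3) • v = 0 := by
    have : (3 : K3) = 0 := by decide
    rw [this, zero_smul]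
  have h4 : -v - v - v = -((3 : K3) • v) := by module
  rw [h4, h3, neg_zero]

theorem IsT.conj {Q : QuadraticForm K3 V7} {t g : GL I7 K3} {v : V7} (h : IsT Q t v)
    (hg : ∀ x, Q (lin g x) = Q x) : IsT Q (g * t * g⁻¹) (lin g v) := by
  refine ⟨by rw [hg, h.val], fun x => ?_⟩
  obtain ⟨y, rfl⟩ : ∃ y, lin g y = x := ⟨lin g⁻¹ x, H781.Cov9.lin_inv_apply' g x⟩
  rw [H781.Cov9.lin_mul_apply, H781.Cov9.lin_mul_apply, H781.Cov9.lin_inv_apply, h.app,
    polar_isom hg, map_sub, map_neg, map_smul]

/-- an involution of the core has no two-dimensional commutator space -/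
theorem no_plane {P : Subgroup (GL I7 K3)} (e : P ≃* ↥(Cfsg.Lie.chevG2.group K3)) {y : GL I7 K3} (hy : y ∈ P)
    (hy2 : y * y = 1) {v w : V7} (hv0 : v ≠ 0) (hv : lin y v = -v)
    (hspan : ∀ x, lin y x = -x → ∃ a b : K3, x = a • v + b • w) : False := by
  have h2 : ∀ x : V7, x = -x → x = 0 := by
    intro x hx
    have h1 : (2 : K3) • x = 0 := by
      have h3 : (2 : K3) • x = x - -x := by module
      rw [h3, ← hx, sub_self]
    exact (smul_eq_zero.1 h1).resolve_left (by decide)
  have hy1 : y ≠ 1 := by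
    rintro rfl
    rw [lin_one] at hv
    exact hv0 (h2 v hv)
  have hord : orderOf (e ⟨y, hy⟩) = 2 := by
    rw [MulEquiv.orderOf_eq]
    apply orderOf_eq_prime
    · rw [pow_two]; exact Subtype.ext hy2
    · intro h; exact hy1 (congrArg Subtype.val h)
  obtain ⟨i, c, d, h1, h3, h4, h5⟩ := exists_quat _ hord
  obtain ⟨I, rfl⟩ := e.surjective i
  obtain ⟨C, rfl⟩ := e.surjective c
  obtain ⟨D, rfl⟩ := e.surjective d
  rw [← map_mul] at h1
  rw [← map_mul, ← map_mul] at h3 h4
  rw [← map_mul, ← map_mul, ← map_mul] at h5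
  have g1 : (I : GL I7 K3) * I = y := congrArg Subtype.val (e.injective h1)
  have g3 : (I : GL I7 K3) * C = C * I := congrArg Subtype.val (e.injective h3)
  have g4 : (I : GL I7 K3) * D = D * I := congrArg Subtype.val (e.injective h4)
  have g5 : (C : GL I7 K3) * D = y * (D * C) := congrArg Subtype.val (e.injective h5)
  have k1 : ∀ x, lin (I : GL I7 K3) (lin (I : GL I7 K3) x) = lin y x := fun x => by
    rw [← H781.Cov9.lin_mul_apply, g1]
  have k3 : ∀ x, lin (I : GL I7 K3) (lin (C : GL I7 K3) x) = lin (C : GL I7 K3) (lin (I : GL I7 K3) x) := fun x => by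
    rw [← H781.Cov9.lin_mul_apply, g3, H781.Cov9.lin_mul_apply]
  have k4 : ∀ x, lin (I : GL I7 K3) (lin (D : GL I7 K3) x) = lin (D : GL I7 K3) (lin (I : GL I7 K3) x) := fun x => by
    rw [← H781.Cov9.lin_mul_apply, g4, H781.Cov9.lin_mul_apply]
  have k5 : ∀ x, lin (C : GL I7 K3) (lin (D : GL I7 K3) x) = lin y (lin (D : GL I7 K3) (lin (C : GL I7 K3) x)) :=
    fun x => by
      rw [← H781.Cov9.lin_mul_apply, g5, H781.Cov9.lin_mul_apply, H781.Cov9.lin_mul_apply]
  -- the commutator space is invariant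
  have hI : ∀ x, lin y x = -x → lin y (lin (I : GL I7 K3) x) = -(lin (I : GL I7 K3) x) := by
    intro x hx
    rw [← k1, k1 x, hx, map_neg]
  have hC : ∀ x, lin y x = -x → lin y (lin (C : GL I7 K3) x) = -(lin (C : GL I7 K3) x) := by
    intro x hx
    rw [← k1, k3, k3, k1, hx, map_neg]
  have hD : ∀ x, lin y x = -x → lin y (lin (D : GL I7 K3) x) = -(lin (D : GL I7 K3) x) := by
    intro x hx
    rw [← k1, k4, k4, k1, hx, map_neg]
  set u := lin (I : GL I7 K3) v with hu
  have huu : lin (I : GL I7 K3) u = -v := by rw [hu, k1, hv]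
  have huE : lin y u = -u := hI v hv
  obtain ⟨a, b, hab⟩ := hspan u huE
  have hb : b ≠ 0 := by
    rintro rfl
    rw [zero_smul, add_zero] at hab
    have h6 : (a * a + 1) • v = 0 := by
      have h7 := huu
      rw [hab, map_smul, ← hu, hab, smul_smul] at h7
      rw [add_smul, one_smul, h7, neg_add_cancel]
    rcases smul_eq_zero.1 h6 with h7 | h7
    · exact sq_ne a h7
    · exact hv0 h7
  have hspan' : ∀ x, lin y x = -x → ∃ p q : K3, x = p • v + q • u := by
    intro x hx
    obtain ⟨p, q, hpq⟩ := hspan x hx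
    refine ⟨p - q * b⁻¹ * a, q * b⁻¹, ?_⟩
    have hw : w = b⁻¹ • (u - a • v) := by
      rw [hab, add_sub_cancel_left, smul_smul, inv_mul_cancel₀ hb, one_smul]
    rw [hpq, hw]
    module
  obtain ⟨p, q, hp⟩ := hspan' _ (hC v hv)
  obtain ⟨p', q', hp'⟩ := hspan' _ (hD v hv)
  have hCu : lin (C : GL I7 K3) u = p • u - q • v := by
    rw [hu, ← k3, hp, map_add, map_smul, map_smul, huu, ← hu]
    module
  have hDu : lin (D : GL I7 K3) u = p' • u - q' • v := by
    rw [hu, ← k4, hp', map_add, map_smul, map_smul, huu, ← hu]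
    module
  have hCD : lin (C : GL I7 K3) (lin (D : GL I7 K3) v) = lin (D : GL I7 K3) (lin (C : GL I7 K3) v) := by
    rw [hp', map_add, map_smul, map_smul, hCu, hp, map_add, map_smul, map_smul, hDu, hp']
    module
  have h6 := k5 v
  rw [hCD, hD _ (hC v hv)] at h6
  have h7 := h2 _ h6
  apply hv0
  have h8 : lin (D⁻¹ : GL I7 K3) (lin (D : GL I7 K3) (lin (C : GL I7 K3) v)) = 0 := by rw [h7, map_zero]
  rw [H781.Cov9.lin_inv_apply] at h8
  have h9 : lin (C⁻¹ : GL I7 K3) (lin (C : GL I7 K3) v) = 0 := by rw [h8, map_zero]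
  rwa [H781.Cov9.lin_inv_apply] at h9

theorem add_self' (x : V7) : x + x = -x := by
  have h3 : (3 : K3) • x = 0 := by
    have : (3 : K3) = 0 := by decide
    rw [this, zero_smul]
  rw [← sub_eq_zero, ← h3]
  module

theorem IsT.sq {Q : QuadraticForm K3 V7} {t : GL I7 K3} {v : V7} (h : IsT Q t v) : t * t = 1 := by
  apply lin_injective
  refine LinearMap.ext fun x => ?_
  rw [H781.Cov9.lin_mul_apply, lin_one, h.app x, map_sub, map_neg, map_smul, h.self, h.app x, Module.End.one_apply]
  module

/-- the product of two commuting negatives of reflections -/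
theorem no_pair {P : Subgroup (GL I7 K3)} (e : P ≃* ↥(Cfsg.Lie.chevG2.group K3)) {Q : QuadraticForm K3 V7}
    {t t' : GL I7 K3} {w w' : V7} (hw : IsT Q t w) (hw' : IsT Q t' w') (h0 : polar Q w w' = 0)
    (hmem : t' * t ∈ P) : False := by
  have happ : ∀ x, lin (t' * t) x = x + polar Q x w • w + polar Q x w' • w' := by
    intro x
    rw [H781.Cov9.lin_mul_apply, hw.app, hw'.app, polar_sub_left, polar_neg_left, polar_smul_left, h0, smul_zero]
    module
  have hww : polar Q w w = 1 := by rw [polar_self', hw.val]; decide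
  have hww' : polar Q w' w' = 1 := by rw [polar_self', hw'.val]; decide
  have h0' : polar Q w' w = 0 := by rw [polar_comm]; exact h0
  obtain ⟨y, hy⟩ : ∃ y, y = t' * t := ⟨_, rfl⟩
  rw [← hy] at hmem happ
  have hyw : lin y w = -w := by rw [happ w, hww, h0, one_smul, zero_smul, add_zero, add_self']
  have hyw' : lin y w' = -w' := by rw [happ w', hww', h0', one_smul, zero_smul, add_zero, add_self']
  refine no_plane e hmem ?_ (v := w) (w := w') hw.ne_zero hyw ?_
  · apply lin_injective
    refine LinearMap.ext fun x => ?_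
    rw [H781.Cov9.lin_mul_apply, lin_one, happ x, map_add, map_add, map_smul, map_smul, happ x, hyw, hyw',
      Module.End.one_apply]
    module
  · intro x hx
    rw [happ x] at hx
    refine ⟨polar Q x w, polar Q x w', ?_⟩
    have h4 : x + x = -(polar Q x w • w + polar Q x w' • w') := by
      rw [eq_neg_iff_add_eq_zero]
      have h5 : x + polar Q x w • w + polar Q x w' • w' + x = 0 := by rw [hx, neg_add_cancel]
      rw [← h5]
      abel
    rw [add_self', neg_inj] at h4
    exact h4

/-- **a residual subgroup of `Ω_7(3)` with core `G₂(3)` contains no negative of a reflection of this type** -/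
theorem no_t {Q : QuadraticForm K3 V7} (hQ : Nondeg Q) {H P : Subgroup (GL I7 K3)}
    (hH : ∀ g ∈ H, ∀ x, Q (lin g x) = Q x) (hcore : IsResidualCore H P)
    (hG : Nonempty ((P ⧸ (scalars I7 K3).subgroupOf P) ≃* Cfsg.Lie.G2 K3)) {t : GL I7 K3} {v : V7}
    (ht : IsT Q t v) (htH : t ∈ H) : False := by
  obtain ⟨e0⟩ := hG
  obtain ⟨e1⟩ := Cfsg.Agent.H638.G2Iso.equiv (F := K3)
  have hZ := scal_bot hcore.perfect
  let e : P ≃* ↥(Cfsg.Lie.chevG2.group K3) :=
    ((QuotientGroup.quotientBot (G := P)).symm.trans ((QuotientGroup.quotientMulEquivOfEq hZ.symm).trans e0)).trans e1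
  -- the products of two conjugates
  have key : ∀ p ∈ P, ∀ p' ∈ P, polar Q (lin p v) (lin p' v) ≠ 0 := by
    intro p hp p' hp' h0
    have hw := ht.conj (hH p (hcore.le hp))
    have hw' := ht.conj (hH p' (hcore.le hp'))
    have hmem : p' * t * p'⁻¹ * (p * t * p⁻¹) ∈ P := by
      have h1 : t * (p'⁻¹ * p) * t⁻¹ ∈ P :=
        hcore.normal t htH _ (P.mul_mem (P.inv_mem hp') hp)
      have h2 : p' * t * p'⁻¹ * (p * t * p⁻¹) = p' * (t * (p'⁻¹ * p) * t⁻¹) * ((t * t) * p⁻¹) := by group
      rw [h2, ht.sq, one_mul]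
      exact P.mul_mem (P.mul_mem hp' h1) (P.inv_mem hp)
    exact no_pair e hw hw' h0 hmem
  -- the vectors `s`
  have hvv : polar Q v v = 1 := by rw [polar_self', ht.val]; decide
  have h1P : lin (1 : GL I7 K3) v = v := by rw [lin_one]; rfl
  have hs : ∀ p ∈ P, ∀ p' ∈ P, polar Q (polar Q (lin p v) v • lin p v - v) (polar Q (lin p' v) v • lin p' v - v) = 0 := by
    intro p hp p' hp'
    have a1 := key p hp p' hp'
    -- the reflected element
    have hp2 : t * p' * t⁻¹ ∈ P := hcore.normal t htH p' hp'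
    have a2 := key p hp _ hp2
    have htv : lin t⁻¹ v = v := by
      have := H781.Cov9.lin_inv_apply t v
      rwa [ht.self] at this
    have h4 : lin (t * p' * t⁻¹) v = -lin p' v - polar Q (lin p' v) v • v := by
      rw [H781.Cov9.lin_mul_apply, H781.Cov9.lin_mul_apply, htv, ht.app]
    rw [h4, polar_sub_right, polar_neg_right, polar_smul_right] at a2
    have a3 := key p hp 1 P.one_mem
    have a4 := key p' hp' 1 P.one_mem
    rw [h1P] at a3 a4
    rw [smul_eq_mul] at a2
    have a5 := arith3 _ _ _ a1 a2 a3 a4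
    rw [polar_sub_left, polar_sub_right, polar_sub_right, polar_smul_left, polar_smul_left, polar_smul_right,
      polar_smul_right, hvv, polar_comm Q v (lin p' v), smul_eq_mul, smul_eq_mul, smul_eq_mul, smul_eq_mul]
    exact a5
  -- all the vectors `p v` are `± v`
  let W : Submodule K3 V7 := Submodule.span K3 {x | ∃ p ∈ P, x = lin p v}
  have hWinv : ∀ s ∈ matrixSet P, W.map (Matrix.toLin' s) ≤ W := by
    rintro _ ⟨g, hg, rfl⟩
    rw [Submodule.map_le_iff_le_comap, Submodule.span_le]
    rintro _ ⟨p, hp, rfl⟩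
    rw [SetLike.mem_coe, Submodule.mem_comap]
    apply Submodule.subset_span
    refine ⟨g * p, P.mul_mem hg hp, ?_⟩
    rw [H781.Cov9.lin_mul_apply]
  have hvW : v ∈ W := Submodule.subset_span ⟨1, P.one_mem, h1P.symm⟩
  have hWtop : W = ⊤ := by
    rcases hcore.absIrred.1 W hWinv with h | h
    · exfalso
      rw [h, Submodule.mem_bot] at hvW
      exact ht.ne_zero hvW
    · exact h
  have hs0 : ∀ p ∈ P, polar Q (lin p v) v • lin p v = v := by
    intro p hp
    rw [← sub_eq_zero]
    apply hQ
    intro w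
    have hw : w ∈ W := by rw [hWtop]; trivial
    have a3 : polar Q (lin p v) v ≠ 0 := by
      have := key p hp 1 P.one_mem
      rwa [h1P] at this
    have hb : ∀ a : K3, a ≠ 0 → a * a = 1 := by decide
    have hsv : polar Q (polar Q (lin p v) v • lin p v - v) v = 0 := by
      rw [polar_sub_left, polar_smul_left, smul_eq_mul, hvv, hb _ a3, sub_self]
    induction hw using Submodule.span_induction with
    | mem w hw =>
      obtain ⟨p', hp', rfl⟩ := hw
      have a4 : polar Q (lin p' v) v ≠ 0 := by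
        have := key p' hp' 1 P.one_mem
        rwa [h1P] at this
      have h5 := hs p hp p' hp'
      rw [polar_sub_right, polar_smul_right, hsv, sub_zero, smul_eq_mul] at h5
      exact (mul_eq_zero.1 h5).resolve_left a4
    | zero => rw [polar_zero_right]
    | add x y _ _ hx hy => rw [polar_add_right, hx, hy, add_zero]
    | smul a x _ hx => rw [polar_smul_right, hx, smul_zero]
  have hline : ∀ p ∈ P, lin p v ∈ Submodule.span K3 {v} := by
    intro p hp
    have a3 : polar Q (lin p v) v ≠ 0 := by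
      have := key p hp 1 P.one_mem
      rwa [h1P] at this
    rw [Submodule.mem_span_singleton]
    refine ⟨(polar Q (lin p v) v)⁻¹, ?_⟩
    conv_lhs => rw [← hs0 p hp]
    rw [smul_smul, hs0 p hp, inv_mul_cancel₀ a3, one_smul]
  have hWle : W ≤ Submodule.span K3 {v} := by
    rw [Submodule.span_le]
    rintro _ ⟨p, hp, rfl⟩
    exact hline p hp
  have h7 := Submodule.finrank_mono hWle
  rw [hWtop, finrank_top, finrank_span_singleton ht.ne_zero] at h7
  have h8 : finrank K3 V7 = 7 := by
    rw [Module.finrank_fintype_fun_eq_card]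
    rfl
  omega

end Cfsg.Agent.H217.Cov7
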